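import Cfsg.Agent.Lib.KnownA.CosetInv

/-! Coset enumeration certificate for the presented HN. -/

set_option autoImplicit false
set_option maxRecDepth 100000

namespace CfsgLib.InvChar.SporHN.PB3

open CfsgLib.InvChar.Coset CfsgLib.KnownA

/-- facts -/
noncomputable def facts : Tr := (.leaf 0x1cf000000001bf000210001af0002000019f0002e00018f0002d00017f0002c00016f0002b0002af0001500028f0003100027f00032000242000340000720002f0002010002e0000020002100034200033000332000320003200003100031200030000302000130002f2000230002e20002d0002d20002c0002c20002b0002b00002a0002a2000290002920002800028100027000272000260002620002500025200024000240000230002320002200022200005000212000200002020001f0001f20001e0001e20001d0001d2000000001c20001b0001b20001a0001a1000190001920001800018200017000172000160001600001500015300014000143000130001310001200012200011000112000100001020000f0000f00000e0000e20000d0000d20000c0000c10000b0000b20000a0000a200009000092000080000800000700007300006000063000050000510000400004200003000032000020000220000100001000000)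
/-- justifications -/
noncomputable def just : Tr := (.leaf 0x34000400001b0042400c00000080000fc000680109003000000350003e000190001c00c000000b4000f40006001090030000002c0003c000170042400c000000ac000ec0005801090030000002a0003a000150041c00c000000500004c000bc000c0000e4000a0000a500000050020003100038000270001c00c000000c8000cc000dc0009000094000990000003003000330003200031000300002f0001200011000100000f0000e0000d0000c0000b0000a000090000800007000360002e000230180c03401c000b80008800084000140001800000030020002d0002c0002b0002a000290002800027000260002500024000230002200021000040000300002000010000000034000200000c038018000800007c0007800074000700000005000)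
/-- relators -/
def rels : List (List ℕ) := [[2, 2, 2, 2, 2, 2], [0, 0, 2, 0, 0, 3], [1, 3, 0, 2, 1, 3, 0, 2, 1, 3, 0, 2], [1, 2, 2, 0, 2, 2, 2, 1, 2, 2, 0, 2, 2, 2, 1, 2, 2, 0, 2, 2, 2], [0, 2, 0, 2, 0, 2, 0, 2, 0, 2, 0, 2, 0, 2, 0, 2], [0, 2, 0, 2, 2, 2, 0, 2, 0, 2, 2, 2, 0, 2, 0, 2, 2, 2, 0, 2, 0, 2, 2, 2], [0, 0, 0, 0], [0, 1], [1, 0], [2, 3], [3, 2]]
/-- subgroup words -/
def subs : List (List ℕ) := []
/-- certificate -/
noncomputable def cert : CosetInv.Cert := ⟨66, 52, facts, just, rels, subs, 0xfedcba9876542301⟩
/-- facts along the walk -/
noncomputable def goalPath : ℕ := 0x410001b0001a000190001800017000160001500014000130001200011000100000f0000e0000d0000c0000b0000a00009000080000700006000050000400003000020000100000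
/-- the word -/
def goal : List ℕ := [0, 2, 2, 2, 1, 3, 3, 0, 2, 2, 2, 1, 2, 2, 0, 2, 2, 2, 1, 3, 3, 0, 2, 2, 2, 1, 2, 2]

end CfsgLib.InvChar.SporHN.PB3
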